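import Groth.Agent.Lib.DescentHom.GeomConnected
import Groth.Agent.Lib.DiagGrp.SubgroupLocus
import Groth.Agent.Lib.DiagGrp.BaseChange

/-!
A central subgroup of multiplicative type over a covering with geometrically connected fibres does not depend on
the lift.
-/

universe u

open CategoryTheory MonoidalCategory CartesianMonoidalCategory MonObj GrpObj AlgebraicGeometry
open CategoryTheory.Limits
open GrothLib.DiagGrp

namespace GrothLib.SubDesc14

variable {S S' P : Scheme.{u}} (π : S' ⟶ S) (G : Over S) [GrpObj G] {H' : Over S'} [GrpObj H']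
  (j' : H' ⟶ Red.bc π G) (q : P ⟶ S) (p : P ⟶ S') (hp : q = p ≫ π)

/-- Base change along a lift, as an isomorphism of schemes over the lift. -/
noncomputable def compIso : Red.bc q G ≅ Red.bc p (Red.bc π G) :=
  (Grp.forget _).mapIso (bcGrpComp G π p q hp)

theorem isMonHom_compIso_inv : IsMonHom (compIso π G q p hp).inv :=
  (bcGrpComp G π p q hp).inv.hom.isMonHom_hom

set_option backward.isDefEq.respectTransparency false in
set_option backward.isDefEq.respectTransparency.types false in
theorem compIso_hom_fst :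
    (compIso π G q p hp).hom.left ≫ pullback.fst (Red.bc π G).hom p ≫ pullback.fst G.hom π =
      pullback.fst G.hom q := by
  subst hp
  have h : (compIso π G (p ≫ π) p rfl).hom = (Over.pullbackComp p π).hom.app G := by
    simp [compIso, bcGrpComp] <;> rfl
  rw [h]
  simp [Over.pullbackComp]
  exact (Category.id_comp _).trans (Category.id_comp _)

theorem compIso_inv_fst :
    (compIso π G q p hp).inv.left ≫ pullback.fst G.hom q =
      pullback.fst (Red.bc π G).hom p ≫ pullback.fst G.hom π := by
  rw [← compIso_hom_fst π G q p hp, ← Category.assoc, ← Over.comp_left, Iso.inv_hom_id, Over.id_left, Category.id_comp]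

/-- The pullback of a subgroup over the covering along a lift. -/
noncomputable def pullSub : Red.bc p H' ⟶ Red.bc q G :=
  (Over.pullback p).map j' ≫ (compIso π G q p hp).inv

omit [GrpObj H'] in
theorem pullSub_left_fst :
    (pullSub π G j' q p hp).left ≫ pullback.fst G.hom q = pullback.fst H'.hom p ≫ j'.left ≫ pullback.fst G.hom π := by
  rw [pullSub, Over.comp_left, Category.assoc, compIso_inv_fst]
  exact (pullback.lift_fst_assoc _ _ _ _).trans (Category.assoc _ _ _)

theorem isMonHom_pullSub [IsMonHom j'] : IsMonHom (pullSub π G j' q p hp) := by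
  haveI := isMonHom_compIso_inv π G q p hp
  unfold pullSub
  infer_instance

omit [GrpObj H'] in
theorem mono_pullSub [Mono j'] : Mono (pullSub π G j' q p hp) := by
  haveI : (Over.pullback p).IsRightAdjoint := (Over.mapPullbackAdj p).isRightAdjoint
  unfold pullSub
  infer_instance

theorem pullSub_central [IsMonHom j']
    (hc : ∀ (X : Over S') (g : X ⟶ Red.bc π G) (h : X ⟶ H'), g * (h ≫ j') = (h ≫ j') * g)
    (X : Over P) (g : X ⟶ Red.bc q G) (h : X ⟶ Red.bc p H') :
    g * (h ≫ pullSub π G j' q p hp) = (h ≫ pullSub π G j' q p hp) * g := by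
  set e := compIso π G q p hp with he
  haveI : IsMonHom e.inv := isMonHom_compIso_inv π G q p hp
  have h1 := central_bc p j' hc (𝟙 _) X (g ≫ e.hom) h
  rw [Category.id_comp] at h1
  have h2 := congrArg (· ≫ e.inv) h1
  simp only [MonObj.mul_comp, Category.assoc] at h2
  rw [e.hom_inv_id, Category.comp_id] at h2
  simpa only [pullSub, ← he] using h2

/-- A central subgroup of multiplicative type does not depend on the lift when the fibres are connected. -/
theorem lift_invariant [IsSeparated G.hom] [LocallyOfFinitePresentation G.hom]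
    [GeometricallyConnected π] (hH' : SGA3x.IsMultTypeFT H') [IsMonHom j'] [Mono j']
    (hc : ∀ (X : Over S') (g : X ⟶ Red.bc π G) (h : X ⟶ H'), g * (h ≫ j') = (h ≫ j') * g)
    (Y : Scheme.{u}) (a b : Y ⟶ pullback G.hom π) (hab : a ≫ pullback.fst G.hom π = b ≫ pullback.fst G.hom π)
    (hz : ∃ z, z ≫ j'.left = a) : ∃ z, z ≫ j'.left = b := by
  let q : pullback π π ⟶ S := pullback.fst π π ≫ π
  have hq : q = pullback.snd π π ≫ π := pullback.condition
  set i₁ := pullSub π G j' q (pullback.fst π π) rfl with hi₁
  set i₂ := pullSub π G j' q (pullback.snd π π) hq with hi₂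
  haveI : IsMonHom i₁ := isMonHom_pullSub π G j' q _ rfl
  haveI : IsMonHom i₂ := isMonHom_pullSub π G j' q _ hq
  haveI : Mono i₁ := mono_pullSub π G j' q _ rfl
  haveI : Mono i₂ := mono_pullSub π G j' q _ hq
  haveI : IsSeparated (Red.bc q G).hom := inferInstanceAs (IsSeparated (pullback.snd G.hom q))
  haveI : LocallyOfFinitePresentation (Red.bc q G).hom :=
    inferInstanceAs (LocallyOfFinitePresentation (pullback.snd G.hom q))
  haveI := lfp_of_isMultTypeFT hH'
  haveI : LocallyOfFiniteType (Red.bc (pullback.fst π π) H').hom :=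
    inferInstanceAs (LocallyOfFiniteType (pullback.snd H'.hom _))
  haveI : LocallyOfFiniteType (Red.bc (pullback.snd π π) H').hom :=
    inferInstanceAs (LocallyOfFiniteType (pullback.snd H'.hom _))
  haveI : LocallyOfFiniteType (Red.bc (pullback.fst π π) H' ⊗ Red.bc (pullback.snd π π) H').hom :=
    inferInstanceAs (LocallyOfFiniteType (pullback.fst (Red.bc (pullback.fst π π) H').hom
      (Red.bc (pullback.snd π π) H').hom ≫ (Red.bc (pullback.fst π π) H').hom))
  let Pc : ∀ (W : Scheme.{u}), (W ⟶ pullback π π) → Prop := fun W f =>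
    HasChart fgM (Red.bc (pullback.fst π π) H') f ∧ HasChart fgM (Red.bc (pullback.snd π π) H') f
  have hcov : ∀ V : (pullback π π).Opens, IsAffineOpen V → CoverBy Pc V := fun V hV =>
    (((hasChartsFpqc_of_isMultTypeFT hH').baseChange _).coverBy V hV).inter
      (((hasChartsFpqc_of_isMultTypeFT hH').baseChange _).coverBy V hV)
      (fun f g f' hf' h => h.precomp g f' hf') (fun f g f' hf' h => h.precomp g f' hf')
  set T : Set ↥(pullback π π) := {s | Factor i₁ i₂ ((pullback π π).fromSpecResidueField s) ∧
    Factor i₂ i₁ ((pullback π π).fromSpecResidueField s)}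
  have main : ∀ {W : Scheme.{u}} [IsAffine W] (f : W ⟶ pullback π π), Pc W f →
      IsClopen (f.base ⁻¹' T) ∧ ((∀ x, f.base x ∈ T) → Factor i₁ i₂ f ∧ Factor i₂ i₁ f) := by
    intro W _ f hP
    obtain ⟨M, _, -, ⟨e₁⟩⟩ := hP.1.precomp W.isoSpec.inv _ rfl
    obtain ⟨M', _, hM', ⟨e₂⟩⟩ := hP.2.precomp W.isoSpec.inv _ rfl
    obtain ⟨hcl, hover⟩ := factor_locus_chart (W.isoSpec.inv ≫ f) e₁ e₂ i₁ i₂ (pullSub_central π G j' q _ rfl hc)
      (Or.inr inferInstance) hM'
    refine ⟨?_, fun hT => ?_⟩
    · have h2 : f.base ⁻¹' T = W.isoSpec.hom.base ⁻¹' ((W.isoSpec.inv ≫ f).base ⁻¹' T) := by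
        rw [← Set.preimage_comp, ← TopCat.coe_comp, ← Scheme.Hom.comp_base, Iso.hom_inv_id_assoc]
      rw [h2]
      exact hcl.preimage W.isoSpec.hom.base.hom.continuous
    · obtain ⟨h, h'⟩ := hover fun x => by rw [Scheme.Hom.comp_apply]; exact hT _
      exact ⟨h.precomp W.isoSpec.hom f (by simp), h'.precomp W.isoSpec.hom f (by simp)⟩
  have hclopen : IsClopen T := isClopen_of_coverBy hcov T fun f hP => (main f hP).1
  have hdiag : ∀ z : S', (pullback.diagonal π).base z ∈ T := by
    intro z
    obtain ⟨r, hrd⟩ : ∃ r, r = S'.fromSpecResidueField z ≫ pullback.diagonal π := ⟨_, rfl⟩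
    have hr : r ≫ pullback.fst π π = r ≫ pullback.snd π π := by
      simp only [hrd, Category.assoc, pullback.diagonal_fst, pullback.diagonal_snd]
    have h12 : Factor i₁ i₂ r := by
      intro Z τ hτ g
      let y : Z ⟶ Red.bc (pullback.snd π π) H' := Over.homMk (pullback.lift (g.left ≫ pullback.fst _ _) Z.hom (by
        rw [Category.assoc, pullback.condition, ← Category.assoc,
          show g.left ≫ pullback.snd H'.hom (pullback.fst π π) = Z.hom from Over.w g, ← hτ]
        simp only [Category.assoc, hr])) (pullback.lift_snd _ _ _)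
      refine ⟨y, Over.OverMorphism.ext (pullback.hom_ext ?_ ((Over.w _).trans (Over.w _).symm))⟩
      change (y.left ≫ i₂.left) ≫ _ = (g.left ≫ i₁.left) ≫ _
      rw [hi₁, hi₂, Category.assoc, Category.assoc, pullSub_left_fst, pullSub_left_fst]
      exact (pullback.lift_fst_assoc _ _ _ _).trans (Category.assoc _ _ _)
    have h21 : Factor i₂ i₁ r := by
      intro Z τ hτ g
      let y : Z ⟶ Red.bc (pullback.fst π π) H' := Over.homMk (pullback.lift (g.left ≫ pullback.fst _ _) Z.hom (by
        rw [Category.assoc, pullback.condition, ← Category.assoc,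
          show g.left ≫ pullback.snd H'.hom (pullback.snd π π) = Z.hom from Over.w g, ← hτ]
        simp only [Category.assoc, hr])) (pullback.lift_snd _ _ _)
      refine ⟨y, Over.OverMorphism.ext (pullback.hom_ext ?_ ((Over.w _).trans (Over.w _).symm))⟩
      change (y.left ≫ i₁.left) ≫ _ = (g.left ≫ i₂.left) ≫ _
      rw [hi₁, hi₂, Category.assoc, Category.assoc, pullSub_left_fst, pullSub_left_fst]
      exact (pullback.lift_fst_assoc _ _ _ _).trans (Category.assoc _ _ _)
    have h1 := pAt_field_iff (MorphismProperty.isomorphisms Scheme.{u}) (pullback.fst i₁ i₂) (L := S'.residueField z) r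
    have h2 := pAt_field_iff (MorphismProperty.isomorphisms Scheme.{u}) (pullback.fst i₂ i₁) (L := S'.residueField z) r
    have hpt : r.base (IsLocalRing.closedPoint (S'.residueField z)) = (pullback.diagonal π).base z := by
      rw [hrd, Scheme.Hom.comp_apply, Scheme.fromSpecResidueField_apply]
    rw [hpt] at h1 h2
    exact ⟨(factor_iff_isIso i₁ i₂ _).mpr (h1.mp ((factor_iff_isIso i₁ i₂ _).mp h12)),
      (factor_iff_isIso i₂ i₁ _).mpr (h2.mp ((factor_iff_isIso i₂ i₁ _).mp h21))⟩
  have htop : ∀ x, x ∈ T := fun x => by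
    have hpre := ((pullback.fst π π).isConnected_preimage_singleton ((pullback.fst π π).base x)).isPreconnected
    refine hpre.subset_isClopen hclopen ?_ (show x ∈ (pullback.fst π π).base ⁻¹' {_} from rfl)
    refine ⟨(pullback.diagonal π).base ((pullback.fst π π).base x), ?_, hdiag _⟩
    change (pullback.fst π π).base _ = (pullback.fst π π).base x
    rw [← Scheme.Hom.comp_apply, pullback.diagonal_fst]
    rfl
  have hall : Factor i₁ i₂ (𝟙 (pullback π π)) :=
    (factor_of_coverBy i₁ i₂ hcov ⊤ fun f hP _ => ((main f hP).2 fun x => htop _).1).precomp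
      (Scheme.topIso _).inv _ (by simp)
  obtain ⟨z, rfl⟩ := hz
  have hzb : (z ≫ j'.left) ≫ pullback.snd G.hom π ≫ π = b ≫ pullback.snd G.hom π ≫ π := by
    rw [← pullback.condition, ← Category.assoc, hab, Category.assoc]
  let Y' : Over (pullback π π) := Over.mk (pullback.lift ((z ≫ j'.left) ≫ pullback.snd G.hom π)
    (b ≫ pullback.snd G.hom π) (by simpa only [Category.assoc] using hzb))
  have hzs : z ≫ H'.hom = Y'.hom ≫ pullback.fst π π := by
    refine Eq.trans ?_ (pullback.lift_fst _ _ _).symm
    rw [Category.assoc, show j'.left ≫ pullback.snd G.hom π = H'.hom from Over.w j']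
  let g : Y' ⟶ Red.bc (pullback.fst π π) H' := Over.homMk (pullback.lift z Y'.hom hzs) (pullback.lift_snd _ _ _)
  obtain ⟨y, hy⟩ := hall Y' Y'.hom (Category.comp_id _) g
  refine ⟨y.left ≫ pullback.fst _ _, pullback.hom_ext ?_ ?_⟩
  · have h3 := congrArg (fun t => t.left ≫ pullback.fst G.hom q) hy
    simp only [Over.comp_left, Category.assoc, hi₁, hi₂, pullSub_left_fst] at h3
    rw [← hab]
    simp only [Category.assoc]
    rw [h3]
    exact pullback.lift_fst_assoc _ _ _ _
  · rw [Category.assoc, show j'.left ≫ pullback.snd G.hom π = H'.hom from Over.w j', Category.assoc,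
      pullback.condition, ← Category.assoc, show y.left ≫ pullback.snd H'.hom (pullback.snd π π) = Y'.hom from Over.w y]
    exact pullback.lift_snd _ _ _

end GrothLib.SubDesc14
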