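import Groth.Agent.Lib.SubDesc14.Scheme
import Groth.Agent.Lib.DiagGrp.ChartCover

/-!
Descent of subgroups along fpqc coverings.
-/

universe u

open CategoryTheory MonoidalCategory CartesianMonoidalCategory MonObj GrpObj AlgebraicGeometry
open CategoryTheory.Limits
open GrothLib.DiagGrp

namespace GrothLib.SubDesc14

variable {S S' : Scheme.{u}} (π : S' ⟶ S)

set_option backward.isDefEq.respectTransparency false in
theorem bcPoint_left_fst (G : Over S) (T : Over S') (g : (Over.map π).obj T ⟶ G) :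
    (bcPoint π G T g).left ≫ pullback.fst G.hom π = g.left := by
  simp [bcPoint, Adjunction.homEquiv_unit, Over.mapPullbackAdj]

/-- The covering of a scheme over the base by a scheme over the covering. -/
noncomputable def covMap (T : Over S) : (Over.map π).obj (Over.mk (pullback.snd T.hom π)) ⟶ T :=
  Over.homMk (pullback.fst T.hom π) pullback.condition

/-- Factorisation through a subscheme descends. -/
theorem exists_factor [Flat π] [Surjective π] (hcov : IsCover π) {N G T : Over S} (n : N ⟶ G) [Mono n.left]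
    (x : T ⟶ G) (y : (Over.map π).obj (Over.mk (pullback.snd T.hom π)) ⟶ N) (hy : y ≫ n = covMap π T ≫ x) :
    ∃ z : T ⟶ N, z ≫ n = x := by
  haveI : EffectiveEpi (pullback.fst T.hom π) :=
    DescentHom.effectiveEpi_of_cover π hcov T.hom _ _ (IsPullback.of_hasPullback T.hom π)
  have hy' : y.left ≫ n.left = pullback.fst T.hom π ≫ x.left := congrArg (fun t => t.left) hy
  have hd : ∀ {Z : Scheme.{u}} (g₁ g₂ : Z ⟶ pullback T.hom π),
      g₁ ≫ pullback.fst T.hom π = g₂ ≫ pullback.fst T.hom π → g₁ ≫ y.left = g₂ ≫ y.left := fun g₁ g₂ h => by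
    rw [← cancel_mono n.left, Category.assoc, Category.assoc, hy', ← Category.assoc, h, Category.assoc]
  have hz : EffectiveEpi.desc (pullback.fst T.hom π) y.left hd ≫ n.left = x.left := by
    rw [← cancel_epi (pullback.fst T.hom π), EffectiveEpi.fac_assoc]
    exact hy'
  exact ⟨Over.homMk (EffectiveEpi.desc (pullback.fst T.hom π) y.left hd)
    (by rw [← Over.w n, ← Category.assoc, hz, Over.w x]), Over.OverMorphism.ext hz⟩

/-- Subgroups equal after the covering are equal. -/
theorem exists_iso_of_bc [Flat π] [Surjective π] (hcov : IsCover π) {H₁ H₂ G : Over S} (j₁ : H₁ ⟶ G) (j₂ : H₂ ⟶ G)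
    [Mono j₁.left] [Mono j₂.left] (e : Red.bc π H₁ ≅ Red.bc π H₂)
    (he : e.hom ≫ (Over.pullback π).map j₂ = (Over.pullback π).map j₁) : ∃ ψ : H₁ ≅ H₂, ψ.hom ≫ j₂ = j₁ := by
  haveI : Mono j₁ := (Over.forget _).mono_of_mono_map (show Mono j₁.left from inferInstance)
  haveI : Mono j₂ := (Over.forget _).mono_of_mono_map (show Mono j₂.left from inferInstance)
  have key : ∀ {A B : Over S} (a : A ⟶ G) (b : B ⟶ G) [Mono b.left] (f : Red.bc π A ⟶ Red.bc π B),
      f ≫ (Over.pullback π).map b = (Over.pullback π).map a → ∃ z : A ⟶ B, z ≫ b = a := by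
    intro A B a b _ f hf
    refine exists_factor π hcov b a ((bcPoint π B _).symm (bcPoint π A _ (covMap π A) ≫ f)) ?_
    rw [← (bcPoint π G _).injective.eq_iff, bcPoint_comp_right, bcPoint_comp_right, Equiv.apply_symm_apply,
      Category.assoc, hf]
  obtain ⟨z, hz⟩ := key j₁ j₂ e.hom he
  obtain ⟨z', hz'⟩ := key j₂ j₁ e.inv (by rw [Iso.inv_comp_eq, he])
  exact ⟨⟨z, z', by rw [← cancel_mono j₁, Category.assoc, hz', hz, Category.id_comp],
    by rw [← cancel_mono j₂, Category.assoc, hz, hz', Category.id_comp]⟩, hz⟩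

theorem IsCover.comp {S'' : Scheme.{u}} {f : S'' ⟶ S'} {π : S' ⟶ S} (hf : IsCover f) (hπ : IsCover π) :
    IsCover (f ≫ π) := by
  intro V hV
  obtain ⟨W, hW, himg⟩ := hπ V hV
  choose A hA hxA hAW using fun x : W => exists_isAffineOpen_mem_and_subset (x := x.1) (U := W) x.2
  obtain ⟨t, ht⟩ := hW.elim_finite_subcover (fun x : W => (A x : Set S')) (fun x => (A x).2)
    (fun y hy => Set.mem_iUnion.mpr ⟨⟨y, hy⟩, hxA ⟨y, hy⟩⟩)
  choose T hT hTA using fun x : W => hf (A x) (hA x)
  refine ⟨⨆ x ∈ t, T x, ?_, ?_⟩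
  · simp only [TopologicalSpace.Opens.coe_iSup]
    exact t.finite_toSet.isCompact_biUnion fun x _ => hT x
  · have h1 : (⋃ x ∈ t, (A x : Set S')) = (W : Set S') :=
      Set.Subset.antisymm (Set.iUnion₂_subset fun x _ => hAW x) ht
    simp only [TopologicalSpace.Opens.coe_iSup, Scheme.Hom.comp_base, TopCat.coe_comp, Set.image_comp,
      Set.image_iUnion, hTA]
    rw [← himg, ← h1, Set.image_iUnion₂]

/-- Being of multiplicative type descends along coverings. -/
theorem isMultTypeFT_descend [Flat π] [Surjective π] (hcov : IsCover π) {H : Over S} [GrpObj H] {H' : Over S'}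
    [GrpObj H'] (e : Grp.mk (Red.bc π H) ≅ Grp.mk H') (hH' : SGA3x.IsMultTypeFT H') : SGA3x.IsMultTypeFT H := by
  obtain ⟨S'', f, hf, hs, hqc, hloc⟩ := hH'
  refine ⟨S'', f ≫ π, inferInstance, inferInstance, IsCover.comp hqc hcov, fun s => ?_⟩
  obtain ⟨U, hU, M, inst, hM, ⟨c⟩⟩ := hloc s
  exact ⟨U, hU, M, inst, hM, ⟨bcGrpComp H π (U.ι ≫ f) _ (Category.assoc _ _ _).symm ≪≫
    (Over.pullback (U.ι ≫ f)).mapGrp.mapIso e ≪≫ c⟩⟩

end GrothLib.SubDesc14
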