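import Groth.Agent.Lib.IdealDescFpqc.Main
import Groth.Agent.Lib.DescentHom.Basic
import Groth.Agent.Lib.QuasiFlat.ProCons
import Groth.Agent.Lib.SubtrLim.LocClosed
import Mathlib.AlgebraicGeometry.Morphisms.UniversallyOpen

/-!
Descent of quasi-compact subschemes along fpqc coverings.
-/

universe u

open CategoryTheory CategoryTheory.Limits AlgebraicGeometry Topology

namespace GrothLib.SubDesc14

variable {S S' Y Y' : Scheme.{u}}

/-- The covering property of a morphism: affine opens are images of quasi-compact opens. -/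
def IsCover (p : Y' ⟶ Y) : Prop :=
  ∀ V : Y.Opens, IsAffineOpen V → ∃ W : Y'.Opens, IsCompact (W : Set Y') ∧ p.base '' (W : Set Y') = (V : Set Y)

theorem IsCover.quasiCompactCover {p : Y' ⟶ Y} (h : IsCover p) :
    QuasiCompactCover (PreZeroHypercover.mk PUnit.{u+1} (fun _ => Y') (fun _ => p)) := ⟨fun {U} hU => by
  obtain ⟨W, hW, himg⟩ := h U hU
  exact IsCompactOpenCovered.iff_of_unique.mpr ⟨W, hW, himg⟩⟩

theorem IsCover.restrict {p : Y' ⟶ Y} (h : IsCover p) (U : Y.Opens) : IsCover (p ∣_ U) := by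
  intro V hV
  obtain ⟨W, hW, himg⟩ := h (U.ι ''ᵁ V) (hV.image_of_isOpenImmersion U.ι)
  have hle : (W : Set Y') ⊆ Set.range (p ⁻¹ᵁ U).ι.base := by
    intro w hw
    rw [(p ⁻¹ᵁ U).range_ι]
    obtain ⟨v, -, hv⟩ : p.base w ∈ U.ι.base '' (V : Set U) := himg.le ⟨w, hw, rfl⟩
    show p.base w ∈ U
    rw [← hv]
    exact v.2
  refine ⟨(p ⁻¹ᵁ U).ι ⁻¹ᵁ W, ?_, ?_⟩
  · rw [(p ⁻¹ᵁ U).ι.isOpenEmbedding.isInducing.isCompact_iff]
    show IsCompact ((p ⁻¹ᵁ U).ι.base '' ((p ⁻¹ᵁ U).ι.base ⁻¹' (W : Set Y')))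
    rwa [Set.image_preimage_eq_of_subset hle]
  · apply U.ι.isOpenEmbedding.injective.image_injective
    show U.ι.base '' ((p ∣_ U).base '' ((p ⁻¹ᵁ U).ι.base ⁻¹' (W : Set Y'))) = U.ι.base '' (V : Set U)
    rw [← Set.image_comp, ← TopCat.coe_comp, ← Scheme.Hom.comp_base, morphismRestrict_ι, Scheme.Hom.comp_base,
      TopCat.coe_comp, Set.image_comp, Set.image_preimage_eq_of_subset hle]
    exact himg

theorem IsCover.baseChange {π : S' ⟶ S} (h : IsCover π) (g : Y ⟶ S) : IsCover (pullback.fst g π) := by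
  intro V hV
  haveI : QuasiCompactCover (PreZeroHypercover.mk PUnit.{u+1} (fun _ => S') (fun _ => π)) := h.quasiCompactCover
  obtain ⟨n, idx, W, hW, heq⟩ := QuasiCompactCover.exists_isAffineOpen_of_isCompact
    ((PreZeroHypercover.mk PUnit.{u+1} (fun _ => S') (fun _ => π)).pullback₁ g) (U := V) hV.isCompact
  let W' : Fin n → (pullback g π).Opens := fun k => W k
  refine ⟨⨆ k, W' k, ?_, ?_⟩
  · rw [TopologicalSpace.Opens.coe_iSup]
    exact isCompact_iUnion fun k => (hW k).isCompact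
  · rw [TopologicalSpace.Opens.coe_iSup, Set.image_iUnion]
    exact heq

/-- The image of a saturated immersed subscheme is locally closed. -/
theorem isLocallyClosed_image (p : Y' ⟶ Y) [Flat p] (hcov : IsCover p) {Z' : Scheme.{u}} (i : Z' ⟶ Y')
    [IsImmersion i] [QuasiCompact i] (hsat : p.base ⁻¹' (p.base '' Set.range i.base) = Set.range i.base) :
    IsLocallyClosed (p.base '' Set.range i.base) := by
  choose V hV hyV _ using fun y : Y => exists_isAffineOpen_mem_and_subset (x := y) (U := (⊤ : Y.Opens)) trivial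
  refine (TopologicalSpace.IsOpenCover.mk (u := V)
    (eq_top_iff.mpr fun y _ => TopologicalSpace.Opens.mem_iSup.mpr ⟨y, hyV y⟩)).isLocallyClosed_iff_coe_preimage.mpr
    fun y => ?_
  obtain ⟨W, hW, himg⟩ := hcov (V y) (hV y)
  have hr : Set.range (W.ι ≫ p).base ⊆ Set.range (V y).ι.base := by
    rintro _ ⟨z, rfl⟩
    rw [(V y).range_ι, ← himg]
    exact ⟨_, z.2, rfl⟩
  let q : (W : Scheme.{u}) ⟶ (V y : Scheme.{u}) := IsOpenImmersion.lift (V y).ι (W.ι ≫ p) hr
  have hq : q ≫ (V y).ι = W.ι ≫ p := IsOpenImmersion.lift_fac _ _ _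
  have hq' : ∀ w, (V y).ι.base (q.base w) = p.base (W.ι.base w) := fun w =>
    congrArg (fun f : (W : Scheme.{u}) ⟶ Y => f.base w) hq
  haveI : IsAffine (V y : Scheme.{u}) := hV y
  haveI : Flat q := by
    have : Flat (q ≫ (V y).ι) := by rw [hq]; infer_instance
    exact MorphismProperty.of_postcomp @Flat (W' := @IsOpenImmersion) q (V y).ι inferInstance this
  haveI : CompactSpace (W : Scheme.{u}) := isCompact_iff_compactSpace.mp hW
  haveI : QuasiCompact q := (quasiCompact_iff_compactSpace q).mpr inferInstance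
  haveI : Surjective q := ⟨fun v => by
    obtain ⟨w, hw, hwv⟩ := himg.ge v.2
    exact ⟨⟨w, hw⟩, (V y).ι.isOpenEmbedding.injective ((hq' _).trans hwv)⟩⟩
  have hpre : q.base ⁻¹' ((V y).ι.base ⁻¹' (p.base '' Set.range i.base)) = W.ι.base ⁻¹' Set.range i.base := by
    ext w
    rw [Set.mem_preimage, Set.mem_preimage, hq' w]
    exact Set.ext_iff.mp hsat _
  change IsLocallyClosed ((V y).ι.base ⁻¹' (p.base '' Set.range i.base))
  refine ((QuasiFlat.isLocallyClosed_iff q (Flat.generalizingMap q) _).mpr ⟨?_, ?_⟩).1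
  · rw [hpre]
    exact i.isLocallyClosed_range.preimage W.ι.continuous
  · rw [hpre]
    refine Constr.isProConstructible_preimage W.ι ?_
    rw [← Set.image_univ]
    exact Constr.isProConstructible_image i (SubtrLim.isProConstructible_of_isClosed isClosed_univ)

/-- A quasi-compact subscheme of a covering space, stable under the descent datum, descends. -/
theorem exists_descended (p : Y' ⟶ Y) [Flat p] (hcov : IsCover p) {Z' : Scheme.{u}}
    (i : Z' ⟶ Y') [IsImmersion i] [QuasiCompact i]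
    (hinv : ∀ (T : Scheme.{u}) (a b : T ⟶ Y'), a ≫ p = b ≫ p → (∃ z, z ≫ i = a) → ∃ z, z ≫ i = b) :
    ∃ (Z : Scheme.{u}) (n : Z ⟶ Y), IsImmersion n ∧
      ∀ (T : Scheme.{u}) (a : T ⟶ Y'), (∃ z, z ≫ n = a ≫ p) ↔ ∃ z, z ≫ i = a := by
  have hsat : p.base ⁻¹' (p.base '' Set.range i.base) = Set.range i.base := by
    refine subset_antisymm ?_ (Set.subset_preimage_image _ _)
    rintro y ⟨x, ⟨z, rfl⟩, hxy⟩
    obtain ⟨w, hw₁, hw₂⟩ := Scheme.Pullback.exists_preimage_pullback (f := i ≫ p) (g := p) z y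
      (by rw [Scheme.Hom.comp_apply]; exact hxy)
    obtain ⟨v, hv⟩ := hinv _ (pullback.fst (i ≫ p) p ≫ i) (pullback.snd (i ≫ p) p)
      (by rw [Category.assoc]; exact pullback.condition) ⟨_, rfl⟩
    exact ⟨v.base w, by rw [← Scheme.Hom.comp_apply, hv, hw₂]⟩
  have hlc := isLocallyClosed_image p hcov i hsat
  let U : Y.Opens := ⟨coborder (p.base '' Set.range i.base), hlc.isOpen_coborder⟩
  have hir : Set.range i.base ⊆ Set.range (p ⁻¹ᵁ U).ι.base := by
    rw [(p ⁻¹ᵁ U).range_ι]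
    exact fun x hx => subset_coborder ⟨x, hx, rfl⟩
  let iU := IsOpenImmersion.lift (p ⁻¹ᵁ U).ι i hir
  have hiU : iU ≫ (p ⁻¹ᵁ U).ι = i := IsOpenImmersion.lift_fac _ _ _
  haveI : IsImmersion iU := by
    have : IsImmersion (iU ≫ (p ⁻¹ᵁ U).ι) := by rw [hiU]; infer_instance
    exact IsImmersion.of_comp iU (p ⁻¹ᵁ U).ι
  haveI : IsClosedImmersion iU := .of_isPreimmersion iU (by
    have : Set.range iU.base = (p ∣_ U).base ⁻¹' (Subtype.val ⁻¹' (p.base '' Set.range i.base)) := by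
      ext x
      have h1 : ((p ∣_ U).base x).1 = p.base x.1 :=
        congrArg (fun f : ((p ⁻¹ᵁ U : Y'.Opens) : Scheme.{u}) ⟶ Y => f.base x) (morphismRestrict_ι p U)
      rw [Set.mem_preimage, Set.mem_preimage, h1, show (p.base x.1 ∈ p.base '' Set.range i.base) =
        (x.1 ∈ p.base ⁻¹' (p.base '' Set.range i.base)) from rfl, hsat, ← hiU, Scheme.Hom.comp_base, TopCat.coe_comp,
        Set.range_comp]
      exact ⟨fun h => ⟨x, h, rfl⟩, fun ⟨x', h, e⟩ => (p ⁻¹ᵁ U).ι.isOpenEmbedding.injective e ▸ h⟩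
    rw [this]
    exact (isClosed_preimage_val_coborder (s := p.base '' Set.range i.base)).preimage (p ∣_ U).continuous)
  have hinvU : ∀ (T : Scheme.{u}) (a b : T ⟶ (p ⁻¹ᵁ U : Y'.Opens)), a ≫ p ∣_ U = b ≫ p ∣_ U →
      (∃ z, z ≫ iU = a) → ∃ z, z ≫ iU = b := by
    rintro T a b hab ⟨z, hz⟩
    obtain ⟨w, hw⟩ := hinv T (a ≫ (p ⁻¹ᵁ U).ι) (b ≫ (p ⁻¹ᵁ U).ι)
      (by simp only [Category.assoc, ← morphismRestrict_ι, reassoc_of% hab])
      ⟨z, by rw [← hz, Category.assoc, hiU]⟩
    exact ⟨w, by rw [← cancel_mono (p ⁻¹ᵁ U).ι, Category.assoc, hiU, hw]⟩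
  -- the descended ideal
  set r := p ∣_ U
  have hc : iU.ker.comap (pullback.fst r r) = iU.ker.comap (pullback.snd r r) := by
    rw [← Scheme.IdealSheafData.ker_fst_of_isClosedImmersion, ← Scheme.IdealSheafData.ker_fst_of_isClosedImmersion]
    obtain ⟨u, hu⟩ := hinvU _ (pullback.fst (pullback.fst r r) iU ≫ pullback.fst r r)
      (pullback.fst (pullback.fst r r) iU ≫ pullback.snd r r) (by simp only [Category.assoc, pullback.condition (f := r) (g := r)])
      ⟨_, pullback.condition.symm⟩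
    obtain ⟨v, hv⟩ := hinvU _ (pullback.fst (pullback.snd r r) iU ≫ pullback.snd r r)
      (pullback.fst (pullback.snd r r) iU ≫ pullback.fst r r) (by simp only [Category.assoc, pullback.condition (f := r) (g := r)])
      ⟨_, pullback.condition.symm⟩
    refine le_antisymm ?_ ?_
    · rw [← pullback.lift_fst (f := pullback.fst r r) (g := iU) (pullback.fst (pullback.snd r r) iU) v hv.symm]
      exact Scheme.Hom.le_ker_comp _ _
    · rw [← pullback.lift_fst (f := pullback.snd r r) (g := iU) (pullback.fst (pullback.fst r r) iU) u hu.symm]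
      exact Scheme.Hom.le_ker_comp _ _
  obtain ⟨J, hJ, -⟩ := IdealDescFpqc.existsUnique (fun _ : PUnit.{u+1} => r) (fun _ => iU.ker)
    (hcov.restrict U).quasiCompactCover (fun _ => inferInstance) (fun _ _ => hc)
  have hJ' : J.comap r = iU.ker := hJ PUnit.unit
  refine ⟨J.subscheme, J.subschemeι ≫ U.ι, inferInstance, fun T a => ⟨?_, ?_⟩⟩
  · rintro ⟨z, hz⟩
    have har : Set.range a.base ⊆ Set.range (p ⁻¹ᵁ U).ι.base := by
      rintro _ ⟨t, rfl⟩
      rw [(p ⁻¹ᵁ U).range_ι]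
      show p.base (a.base t) ∈ U
      rw [← Scheme.Hom.comp_apply, ← hz, ← Category.assoc, Scheme.Hom.comp_apply]
      exact ((z ≫ J.subschemeι).base t).2
    let aU := IsOpenImmersion.lift (p ⁻¹ᵁ U).ι a har
    have haU : aU ≫ (p ⁻¹ᵁ U).ι = a := IsOpenImmersion.lift_fac _ _ _
    have h1 : z ≫ J.subschemeι = aU ≫ r := by
      rw [← cancel_mono U.ι, Category.assoc, hz, Category.assoc, morphismRestrict_ι, reassoc_of% haU]
    have h2 : iU.ker ≤ (pullback.fst r J.subschemeι).ker := by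
      rw [Scheme.IdealSheafData.ker_fst_of_isClosedImmersion, Scheme.IdealSheafData.ker_subschemeι, hJ']
    refine ⟨pullback.lift aU z h1.symm ≫ IsClosedImmersion.lift iU _ h2, ?_⟩
    conv_rhs => rw [← haU]
    rw [← hiU, Category.assoc, IsClosedImmersion.lift_fac_assoc, pullback.lift_fst_assoc]
  · rintro ⟨z, rfl⟩
    have h3 : J.subschemeι.ker ≤ (iU ≫ r).ker := by
      rw [Scheme.IdealSheafData.ker_subschemeι]
      refine (Scheme.IdealSheafData.le_map_iff_comap_le.mpr hJ'.le).trans ?_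
      rw [Scheme.IdealSheafData.map_ker]
    refine ⟨z ≫ IsClosedImmersion.lift _ _ h3, ?_⟩
    rw [Category.assoc, IsClosedImmersion.lift_fac_assoc, Category.assoc, morphismRestrict_ι, reassoc_of% hiU]
    simp

end GrothLib.SubDesc14
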